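import Cfsg.Agent.Lib.CosetEnum.SuzBase.Data
import Cfsg.Agent.Lib.CosetEnum.SuzG24.Data

/-! Generated certificate. -/

set_option autoImplicit false
set_option maxRecDepth 20000

namespace Cfsg.Lib.CosetEnum.SuzBase

theorem orbit0_ok : orbitOK SuzG24.tabP orb0 pos0 7 1782 1782 words0 1782 0 = true := by
  decide +kernel

theorem nest0_ok : nestOK SuzG24.tabP 7 level0 words1 = true := by
  decide +kernel

theorem orbit1_ok : orbitOK SuzG24.tabP orb1 pos1 7 1782 1365 words1 1365 0 = true := by
  decide +kernel

theorem nest1_ok : nestOK SuzG24.tabP 7 level1 words2 = true := by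
  decide +kernel

theorem orbit2_ok : orbitOK SuzG24.tabP orb2 pos2 7 1782 1024 words2 1024 0 = true := by
  decide +kernel

theorem nest2_ok : nestOK SuzG24.tabP 7 level2 words3 = true := by
  decide +kernel

theorem orbit3_ok : orbitOK SuzG24.tabP orb3 pos3 7 1782 15 words3 15 0 = true := by
  decide +kernel

theorem nest3_ok : nestOK SuzG24.tabP 7 level3 words4 = true := by
  decide +kernel

theorem orbit4_ok : orbitOK SuzG24.tabP orb4 pos4 7 1782 4 words4 4 0 = true := by
  decide +kernel

theorem nest4_ok : nestOK SuzG24.tabP 7 level4 words5 = true := by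
  decide +kernel

theorem orbit5_ok : orbitOK SuzG24.tabP orb5 pos5 7 1782 3 words5 3 0 = true := by
  decide +kernel

theorem nest5_ok : nestOK SuzG24.tabP 7 level5 [] = true := by
  decide +kernel

theorem killWord_pow : permOK SuzG24.tabP 7 1782 [(List.replicate 11 killWord).flatten] 1782 0 = true := by
  decide +kernel

theorem killWord_ne : Nat.beq (twalk SuzG24.tabP 7 killWord 0) 0 = false ∨ Nat.beq (twalk SuzG24.tabP 7 killWord 1) 1 = false := by
  decide +kernel

end Cfsg.Lib.CosetEnum.SuzBase
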