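import Cfsg.Agent.Lib.CosetEnum.Defs

/-! Generated table data. -/

set_option autoImplicit false
set_option maxRecDepth 20000

namespace Cfsg.Lib.CosetEnum.SuzBase

/-- Table data. -/
def orb3_0_0 : Tab :=
  (.leaf 0x65800002800003000062b00002400000000053100002000001000051100002000000000005a00001400001000059700001000003000064c00000c00003000003700000c00001000002000000800001000002700000800000000000e00000400002000004100000400001000001500000000001000000800000000000000000400000000000)

/-- Table data. -/
def orb3_0 : Tab :=
  orb3_0_0

end Cfsg.Lib.CosetEnum.SuzBase
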